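import Mathlib
import Groth.Agent.Lib.AdicFS.PowerSeries
import Groth.Prelude.Def_CAlgX

/-!
# Power series over a formally smooth coefficient ring
-/

universe u

open IsLocalRing

namespace GrothLib.AdicPS2

/-- Power series over a coefficient ring with the lifting property inherit it. -/
theorem isAdicFormallySmooth_powerSeries (R Λ : Type u) [CommRing R] [CommRing Λ] [IsLocalRing Λ]
    [Algebra R Λ] (n : ℕ) [IsLocalRing (MvPowerSeries (Fin n) Λ)]
    (hΛ : CAlgX.IsAdicFormallySmooth R Λ (maximalIdeal Λ)) :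
    CAlgX.IsAdicFormallySmooth R (MvPowerSeries (Fin n) Λ) (maximalIdeal (MvPowerSeries (Fin n) Λ)) := by
  intro A _ _ J hJ ψ ⟨t, ht⟩
  let c : Λ →ₐ[R] MvPowerSeries (Fin n) Λ := IsScalarTower.toAlgHom R Λ (MvPowerSeries (Fin n) Λ)
  have hC : ∀ x ∈ maximalIdeal Λ, (c x : MvPowerSeries (Fin n) Λ) ∈ maximalIdeal (MvPowerSeries (Fin n) Λ) := by
    intro x hx hu
    apply (IsLocalRing.mem_maximalIdeal x).1 hx
    have h1 := hu.map (MvPowerSeries.constantCoeff (σ := Fin n) (R := Λ))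
    simpa [c, MvPowerSeries.algebraMap_apply] using h1
  have hmap : (maximalIdeal Λ).map c.toRingHom ≤ maximalIdeal (MvPowerSeries (Fin n) Λ) :=
    Ideal.map_le_iff_le_comap.2 hC
  obtain ⟨v, hv⟩ := hΛ A J hJ (ψ.comp c) ⟨t, fun x hx => ht _ (Ideal.pow_right_mono hmap t (by
    rw [← Ideal.map_pow]
    exact Ideal.mem_map_of_mem _ hx))⟩
  letI : Algebra Λ A := v.toRingHom.toAlgebra
  haveI : IsScalarTower R Λ A := IsScalarTower.of_algebraMap_eq fun r => (v.commutes r).symm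
  let ψ' : MvPowerSeries (Fin n) Λ →ₐ[Λ] A ⧸ J :=
    { ψ.toRingHom with commutes' := fun x => (DFunLike.congr_fun hv x).symm }
  have hvJ : (maximalIdeal Λ ^ t).map (algebraMap Λ A) ≤ J := Ideal.map_le_iff_le_comap.2 fun x hx => by
    rw [Ideal.mem_comap, ← Ideal.Quotient.eq_zero_iff_mem]
    show Ideal.Quotient.mkₐ R J (v x) = 0
    rw [← AlgHom.comp_apply, hv]
    exact ht _ (Ideal.pow_right_mono hmap t (by rw [← Ideal.map_pow]; exact Ideal.mem_map_of_mem _ hx))
  have hprod : GrothLib.AdicFS.prodIdeal (maximalIdeal Λ) n ≤ maximalIdeal (MvPowerSeries (Fin n) Λ) := by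
    refine sup_le (Ideal.map_le_iff_le_comap.2 fun x hx => ?_) fun f hf hu => ?_
    · have := hC x hx
      simpa [c, MvPowerSeries.algebraMap_apply] using this
    · have h1 := hu.map (MvPowerSeries.constantCoeff (σ := Fin n) (R := Λ))
      rw [RingHom.mem_ker.1 hf] at h1
      exact not_isUnit_zero h1
  obtain ⟨χ, hχ⟩ := GrothLib.AdicFS.isFormallySmoothAdic_mvPowerSeries (maximalIdeal Λ) n A J ⟨2, hJ⟩
    ⟨t * 2, eq_bot_iff.2 (by rw [pow_mul, Ideal.map_pow, ← hJ]; exact Ideal.pow_right_mono hvJ 2)⟩ ψ'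
    ⟨t, fun x hx => ht x (Ideal.pow_right_mono hprod t hx)⟩
  exact ⟨χ.restrictScalars R, AlgHom.ext fun x => DFunLike.congr_fun hχ x⟩

/-- A formally smooth field extension has the lifting property. -/
theorem isAdicFormallySmooth_field (k K : Type u) [Field k] [Field K] [Algebra k K] [Algebra.FormallySmooth k K]
    (n : Ideal K) : CAlgX.IsAdicFormallySmooth k K n := fun A _ _ J hJ ψ _ =>
  ⟨Algebra.FormallySmooth.lift J ⟨2, hJ⟩ ψ, Algebra.FormallySmooth.comp_lift J ⟨2, hJ⟩ ψ⟩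

end GrothLib.AdicPS2
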